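import Mathlib
import Cfsg.Agent.Lib.Lang.Inv

/-!
# Involutions of `G₂(q)`, `q` odd
-/

set_option autoImplicit false
set_option Elab.async false

namespace CfsgLib.Lang

open CfsgLib.Chev CfsgLib.Weyl CfsgLib.RGD CfsgLib.ChevAut Cfsg.Lie Cfsg.Lie.ChevalleyDatum

/-- the action of the generators on the roots -/
def ttG2 : ℕ := 0x10002040306050807090b0a000000000000000000000000000000000000000000000000000000000000000000000000000000000000000000000000000000000000000000000000000000000000000000000000000000000000000000000000000000000000000000000000000000000000000000000000000000000000000000000000000000000000000000000000000000000000000000000000000000000000000000000000000000000000000000000000000000000000000000000000000000000000000000000000000000000000000000000000000000000000000000000000000000000000000000000000000000000000000000000000000000000a0b09070805060304020001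

/-- the generators as words -/
def gsG2 : List (List ℕ) := [[1], [0, 1, 0, 1, 0]]

/-- a level of the stabiliser chain -/
def levG20 : Lev where
  β := 6
  v := [-3, 6]
  p0 := [9]
  p1 := [6]
  ob := [6, 5]
  es := [0, 1]
  ws := [[], [0]]
  cl := [(2, [2, 5, 6, 9])]

theorem okG20 : levChk 2 12 tRG2 tAG2 ttG2 2 (fun r => dot 2 tRG2 (bitv 2 1) r % 2)
    [] levG20 = true := by decide +kernel

/-- a level of the stabiliser chain -/
def levG21 : Lev where
  β := 9
  v := [1, 0]
  p0 := []
  p1 := [9]
  ob := [9, 2]
  es := [0, 1]
  ws := [[], [1]]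
  cl := []

theorem okG21 : levChk 2 12 tRG2 tAG2 ttG2 2 (fun r => dot 2 tRG2 (bitv 2 1) r % 2)
    [(levG20.β, levG20.v)] levG21 = true := by decide +kernel

theorem clsG2 : Cls rtOKG2 tRG2 (bitv 2 1) 2 [2, 2] :=
  haveI : NeZero chevG2.nroots := ⟨by decide⟩
  cls_of_chk _ tablesOKG2 rfl (TT := ttG2) (gs := gsG2) (Ls := [levG20, levG21]) (by decide +kernel)
    ⟨okG20, okG21, by unfold ChainOK; decide +kernel⟩ (by decide +kernel) (by decide +kernel) rfl (by decide)

theorem orbG2 : orbChk 2 tRG2 tSG2 tTG2 ([1].foldr (fun x O => O ||| 2 ^ x) 1)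
    ([(3, 0, 1), (2, 1, 3)]) = true := by decide +kernel

theorem negG2 : ∃ w ∈ (rootSys rtOKG2).W, ∀ r, w r = (rootSys rtOKG2).neg r :=
  exists_neg_of_chk _ tablesOKG2 (List.replicate 3 (List.range 2)).flatten (by decide +kernel) (by decide +kernel)

end CfsgLib.Lang
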